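import Mathlib
import Cfsg.Agent.Lib.PronormalPSL.Sylow
import Cfsg.Agent.Lib.PronormalPSU.UnitaryEven

/-!
Sylow 2-subgroups of `SU_{2^k}(q)`, `q` odd, `k ≥ 2`, are their own normalisers.
-/

set_option autoImplicit false
set_option linter.unusedSectionVars false

namespace CfsgLib.PronormalPSU

open Matrix CfsgLib.PronormalPSL CfsgLib.ClassicalGroups

variable {F : Type*} [Field F] [Fintype F] {q : ℕ}

/-! ### Arithmetic -/

/-- The exponent of 2 in the order of `GU_n(q)`. -/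
def guExp (q n : ℕ) : ℕ := ∑ i ∈ Finset.range n, v2 (if Even i then q ^ (i + 1) + 1 else q ^ (i + 1) - 1)

theorem v2_pow_odd_add_one (hq : Odd q) (hq2 : 2 ≤ q) {r : ℕ} (hr : Odd r) :
    v2 (q ^ r + 1) = v2 (q + 1) := by
  have h1 : v2 ((q ^ 2) ^ r - 1) = v2 (q ^ 2 - 1) :=
    v2_pow_odd_sub_one hq.pow (le_trans hq2 (Nat.le_self_pow two_ne_zero q)) hr
  have h2 := v2_pow_odd_sub_one hq hq2 hr
  have hne : q ^ r - 1 ≠ 0 := pow_sub_one_ne_zero hq2 (fun h => by simp [h] at hr)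
  rw [← pow_mul, mul_comm, pow_mul, sq_sub_one_eq, sq_sub_one_eq, v2_mul hne (by omega),
    v2_mul (by omega) (by omega), h2] at h1
  omega

theorem guExp_add (hq : Odd q) (hq2 : 2 ≤ q) (m : ℕ) :
    guExp q (2 * m) + m * v2 (q - 1) = glExp q (2 * m) + m * v2 (q + 1) := by
  induction m with
  | zero => simp [guExp, glExp]
  | succ m ih =>
    have he : Even (2 * m) := even_two_mul m
    have ho : ¬ Even (2 * m + 1) := by simp [Nat.even_add_one]
    unfold guExp glExp at ih ⊢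
    rw [show 2 * (m + 1) = 2 * m + 1 + 1 by ring, Finset.sum_range_succ, Finset.sum_range_succ, Finset.sum_range_succ,
      Finset.sum_range_succ, if_pos he, if_neg ho, v2_pow_odd_add_one hq hq2 ⟨m, rfl⟩,
      v2_pow_odd_sub_one hq hq2 ⟨m, rfl⟩]
    simp only [add_mul, one_mul]
    omega

theorem guExp_double (hq : Odd q) (hq2 : 2 ≤ q) {k : ℕ} (hk : 1 ≤ k) :
    guExp q (2 * 2 ^ k) = 2 * guExp q (2 ^ k) + 1 := by
  obtain ⟨j, rfl⟩ : ∃ j, k = j + 1 := ⟨k - 1, by omega⟩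
  have h1 := guExp_add hq hq2 (2 ^ j)
  have h2 := guExp_add hq hq2 (2 * 2 ^ j)
  have h3 := glExp_double hq hq2 hk
  rw [show 2 ^ (j + 1) = 2 * 2 ^ j by rw [pow_succ]; ring] at *
  have e1 : 2 * 2 ^ j * v2 (q - 1) = 2 * (2 ^ j * v2 (q - 1)) := by ring
  have e2 : 2 * 2 ^ j * v2 (q + 1) = 2 * (2 ^ j * v2 (q + 1)) := by ring
  omega

theorem guExp_two (hq : Odd q) (hq2 : 2 ≤ q) : v2 (q + 1) + 3 ≤ guExp q 2 := by
  have h8 : 2 ^ 3 ∣ q ^ 2 - 1 := Nat.eight_dvd_sq_sub_one_of_odd hq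
  have h3 := (pow_dvd_iff_le_v2 (pow_sub_one_ne_zero hq2 two_ne_zero)).1 h8
  simp only [guExp, Finset.sum_range_succ, Finset.sum_range_zero, zero_add, Nat.not_even_one, if_false, pow_one,
    Even.zero, if_true, Nat.reduceAdd]
  omega

/-! ### The general unitary group on an arbitrary index type -/

/-- The group of the form `Σ u_i v_i^q`. -/
def guI (ι : Type) [Fintype ι] [DecidableEq ι] (τ : F →+* F) : Subgroup (GL ι F) where
  carrier := {g | ((g : Matrix ι ι F).map τ)ᵀ * g = 1}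
  mul_mem' := by
    intro a b (ha : ((a : Matrix ι ι F).map τ)ᵀ * a = 1) (hb : ((b : Matrix ι ι F).map τ)ᵀ * b = 1)
    show (((a * b : GL ι F) : Matrix ι ι F).map τ)ᵀ * _ = 1
    rw [Units.val_mul, Matrix.map_mul, transpose_mul, mul_assoc, ← mul_assoc ((a : Matrix ι ι F).map τ)ᵀ, ha,
      one_mul, hb]
  one_mem' := by
    show (((1 : GL ι F) : Matrix ι ι F).map τ)ᵀ * _ = 1
    simp
  inv_mem' := by
    intro a (ha : ((a : Matrix ι ι F).map τ)ᵀ * a = 1)
    show (((a⁻¹ : GL ι F) : Matrix ι ι F).map τ)ᵀ * _ = 1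
    have hai : ((a⁻¹ : GL ι F) : Matrix ι ι F) = ((a : Matrix ι ι F).map τ)ᵀ :=
      (left_inv_eq_right_inv ha (Units.mul_inv a)).symm
    calc (((a⁻¹ : GL ι F) : Matrix ι ι F).map τ)ᵀ * ((a⁻¹ : GL ι F) : Matrix ι ι F)
        = (((a⁻¹ : GL ι F) : Matrix ι ι F).map τ)ᵀ * ((a : Matrix ι ι F).map τ)ᵀ := by rw [← hai]
      _ = (((a : Matrix ι ι F) * ((a⁻¹ : GL ι F) : Matrix ι ι F)).map τ)ᵀ := by
          rw [Matrix.map_mul, transpose_mul]
      _ = 1 := by rw [Units.mul_inv]; simp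

theorem mem_guI {ι : Type} [Fintype ι] [DecidableEq ι] {τ : F →+* F} {g : GL ι F} :
    g ∈ guI ι τ ↔ ((g : Matrix ι ι F).map τ)ᵀ * g = 1 := Iff.rfl

theorem guI_fin (hF : Fintype.card F = q ^ 2) (n : ℕ) : guI (Fin n) (hermConj hF) = Cfsg.GU n F q := by
  ext g
  exact (su_matrix_iff hF).symm.trans mem_GU_iff.symm

theorem map_glReindex_guI {ι κ : Type} [Fintype ι] [DecidableEq ι] [Fintype κ] [DecidableEq κ] (e : ι ≃ κ)
    (τ : F →+* F) : (guI ι τ).map (glReindex (F := F) e).toMonoidHom = guI κ τ := by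
  ext y
  obtain ⟨x, rfl⟩ := (glReindex (F := F) e).surjective y
  rw [show (glReindex e) x = (glReindex e).toMonoidHom x from rfl,
    Subgroup.mem_map_iff_mem (f := (glReindex (F := F) e).toMonoidHom) (glReindex (F := F) e).injective,
    mem_guI, mem_guI]
  show _ ↔ (((x : Matrix ι ι F).submatrix e.symm e.symm).map τ)ᵀ * (x : Matrix ι ι F).submatrix e.symm e.symm = 1
  rw [show (((x : Matrix ι ι F).submatrix e.symm e.symm).map τ)ᵀ =
    (((x : Matrix ι ι F).map τ)ᵀ).submatrix e.symm e.symm from rfl, submatrix_mul_equiv]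
  constructor
  · intro h; rw [h, submatrix_one_equiv]
  · intro h
    have := congrArg (fun M : Matrix κ κ F => M.submatrix e e) h
    simpa using this

theorem v2_card_guI (hF : Fintype.card F = q ^ 2) (hq : Odd q) {ι : Type} [Fintype ι] [DecidableEq ι] :
    v2 (Nat.card (guI ι (hermConj hF))) = guExp q (Fintype.card ι) := by
  have hq2 := herm_two_le hF
  rw [Nat.card_congr ((guI ι (hermConj hF)).equivMapOfInjective _
      (glReindex (F := F) (Fintype.equivFin ι)).injective).toEquiv]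
  show v2 (Nat.card ((guI ι (hermConj hF)).map (glReindex (F := F) (Fintype.equivFin ι)).toMonoidHom :
    Subgroup (GL (Fin (Fintype.card ι)) F))) = _
  rw [map_glReindex_guI, guI_fin hF, card_GU hF]
  have hne : ∀ i, (if Even i then q ^ (i + 1) + 1 else q ^ (i + 1) - 1) ≠ 0 := fun i => by
    split_ifs
    · omega
    · exact pow_sub_one_ne_zero hq2 (by omega)
  rw [v2_mul (pow_ne_zero _ (by omega)) (Finset.prod_ne_zero_iff.2 fun i _ => hne i),
    v2_eq_zero_of_odd hq.pow, zero_add]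
  show Nat.factorization (Finset.prod _ _) 2 = _
  rw [Nat.factorization_prod fun i _ => hne i, Finsupp.finsetSum_apply]
  rfl

/-- A 2-subgroup of `GU` of full 2-part order with the properties carried through the induction. -/
def GoodU {ι : Type} [Fintype ι] [DecidableEq ι] (τ : F →+* F) (S : Subgroup (GL ι F)) : Prop :=
  S ≤ guI ι τ ∧ Nat.card S = 2 ^ v2 (Nat.card (guI ι τ)) ∧ Irr (S ⊓ detK ι F) ∧
    3 ≤ Nat.card (S ⊓ detK ι F : Subgroup (GL ι F)) ∧ ScalarNormalizer S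

/-! ### Degree two -/

theorem exists_unitary_pair (hF : Fintype.card F = q ^ 2) (hq : Odd q) :
    ∃ I J : GL (Fin 2) F, I ∈ guI (Fin 2) (hermConj hF) ∧ J ∈ guI (Fin 2) (hermConj hF) ∧
      I ∈ detK (Fin 2) F ∧ J ∈ detK (Fin 2) F ∧
      (I : Matrix (Fin 2) (Fin 2) F) * I = -1 ∧ (J : Matrix (Fin 2) (Fin 2) F) * J = -1 ∧
      (I : Matrix (Fin 2) (Fin 2) F) * J = -((J : Matrix (Fin 2) (Fin 2) F) * I) := by
  classical
  have hoddF : Odd (Fintype.card F) := by rw [hF]; exact hq.pow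
  have h2 : (2 : F) ≠ 0 := two_ne_zero_of_odd_card hoddF
  have hnF : ringChar F ≠ 2 := fun h => by
    have := FiniteField.even_card_of_char_two h
    exact Nat.not_even_iff_odd.2 hoddF (Nat.even_iff.2 this)
  set τ := hermConj hF with hτd
  -- two elements of trace zero whose norms sum to one
  obtain ⟨x, y, hx, hy, hxy⟩ : ∃ x y : F, τ x = -x ∧ τ y = -y ∧ x * x + y * y = -1 := by
    obtain ⟨i, hi⟩ : ∃ i : F, i ^ 2 = -1 := by
      have hs : IsSquare (-1 : F) := FiniteField.isSquare_neg_one_iff.2 (by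
        rw [hF]
        obtain ⟨t, rfl⟩ := hq
        ring_nf
        omega)
      obtain ⟨r, hr⟩ := hs
      exact ⟨r, by rw [pow_two, ← hr]⟩
    have hτi : τ i ^ 2 = -1 := by rw [← map_pow, hi, map_neg, map_one]
    rcases eq_or_eq_neg_of_sq_eq_sq _ _ (hτi.trans hi.symm) with h | h
    · -- `i` is fixed
      obtain ⟨ξ, hξ0, hξ⟩ := exists_trace_zero hF
      have hξ' : τ ξ = -ξ := hξ
      set c : F := -(ξ * ξ)⁻¹ with hc
      have hcf : τ c = c := by rw [hc, map_neg, map_inv₀, map_mul, hξ', neg_mul_neg]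
      have hi0 : i ≠ 0 := fun h0 => by simp [h0] at hi
      refine ⟨ξ * ((c + 1) / 2), ξ * ((c - 1) / (2 * i)), ?_, ?_, ?_⟩
      · rw [map_mul, map_div₀, map_add, map_one, hcf, hξ', map_ofNat, neg_mul]
      · rw [map_mul, map_div₀, map_sub, map_mul, map_one, hcf, hξ', h, map_ofNat, neg_mul]
      · have key : ((c + 1) / 2) ^ 2 + ((c - 1) / (2 * i)) ^ 2 = c := by
          rw [div_pow, div_pow, mul_pow, hi]
          field_simp
          ring
        calc ξ * ((c + 1) / 2) * (ξ * ((c + 1) / 2)) + ξ * ((c - 1) / (2 * i)) * (ξ * ((c - 1) / (2 * i)))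
            = ξ * ξ * (((c + 1) / 2) ^ 2 + ((c - 1) / (2 * i)) ^ 2) := by ring
          _ = -1 := by rw [key, hc]; field_simp
    · exact ⟨i, 0, h, by simp, by rw [← pow_two, hi]; ring⟩
  have hI : (!![0, 1; -1, 0] : Matrix (Fin 2) (Fin 2) F).det = 1 := by simp [det_fin_two]
  have hJ : (!![x, y; y, -x] : Matrix (Fin 2) (Fin 2) F).det = 1 := by
    simp [det_fin_two]; linear_combination -hxy
  refine ⟨GeneralLinearGroup.mkOfDetNeZero _ (by rw [hI]; exact one_ne_zero),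
    GeneralLinearGroup.mkOfDetNeZero _ (by rw [hJ]; exact one_ne_zero), ?_, ?_, Units.ext hI, Units.ext hJ,
    ?_, ?_, ?_⟩
  · show ((!![0, 1; -1, 0] : Matrix (Fin 2) (Fin 2) F).map τ)ᵀ * !![0, 1; -1, 0] = 1
    ext i j; fin_cases i <;> fin_cases j <;> simp [Matrix.mul_apply, Fin.sum_univ_two]
  · show ((!![x, y; y, -x] : Matrix (Fin 2) (Fin 2) F).map τ)ᵀ * !![x, y; y, -x] = 1
    ext i j; fin_cases i <;> fin_cases j <;> simp [Matrix.mul_apply, Fin.sum_univ_two, hx, hy] <;>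
      first | linear_combination -hxy | ring1
  · show (!![0, 1; -1, 0] : Matrix (Fin 2) (Fin 2) F) * !![0, 1; -1, 0] = -1
    ext i j; fin_cases i <;> fin_cases j <;> simp
  · show (!![x, y; y, -x] : Matrix (Fin 2) (Fin 2) F) * !![x, y; y, -x] = -1
    ext i j; fin_cases i <;> fin_cases j <;> simp <;> first | linear_combination hxy | ring1
  · show (!![0, 1; -1, 0] : Matrix (Fin 2) (Fin 2) F) * !![x, y; y, -x] =
      -(!![x, y; y, -x] * !![0, 1; -1, 0])
    ext i j; fin_cases i <;> fin_cases j <;> simp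

theorem exists_good_two' (hF : Fintype.card F = q ^ 2) (hq : Odd q) :
    ∃ S : Subgroup (GL (Fin 2) F), GoodU (hermConj hF) S := by
  have hoddF : Odd (Fintype.card F) := by rw [hF]; exact hq.pow
  have h2 : (2 : F) ≠ 0 := two_ne_zero_of_odd_card hoddF
  have hq2 := herm_two_le hF
  set τ := hermConj hF
  obtain ⟨I, J, hIG, hJG, hIK, hJK, hI, hJ, hIJ⟩ := exists_unitary_pair hF hq
  obtain ⟨P, hP⟩ := ((isPGroup_pair hI hJ hIJ).comap_of_injective (guI (Fin 2) τ).subtype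
    (Subgroup.subtype_injective _)).exists_le_sylow
  set S := (P : Subgroup (guI (Fin 2) τ)).map (guI (Fin 2) τ).subtype with hSd
  have hmapS : ∀ a, a ∈ (P : Subgroup (guI (Fin 2) τ)) → a.1 ∈ S := fun a ha => ⟨a, ha, rfl⟩
  have hcardS : Nat.card S = 2 ^ v2 (Nat.card (guI (Fin 2) τ)) := by
    rw [hSd, ← Nat.card_congr ((P : Subgroup (guI (Fin 2) τ)).equivMapOfInjective _
      (Subgroup.subtype_injective _)).toEquiv, Sylow.card_eq_multiplicity]
  have hIS : I ∈ S := ⟨⟨I, hIG⟩, hP (Subgroup.mem_sup_left (Subgroup.mem_zpowers I)), rfl⟩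
  have hJS : J ∈ S := ⟨⟨J, hJG⟩, hP (Subgroup.mem_sup_right (Subgroup.mem_zpowers J)), rfl⟩
  have hpS : IsPGroup 2 S := IsPGroup.of_card hcardS
  have hSle : S ≤ guI (Fin 2) τ := fun g hg => by obtain ⟨a, -, rfl⟩ := hg; exact a.2
  clear_value S
  refine ⟨S, hSle, hcardS, irr_pair h2 ⟨hIS, hIK⟩ ⟨hJS, hJK⟩ hI hJ hIJ, ?_, ?_⟩
  · classical
    have hI2 : ((I * I : GL (Fin 2) F) : Matrix (Fin 2) (Fin 2) F) = -1 := by rw [Units.val_mul, hI]
    have hne : (1 : GL (Fin 2) F) ≠ I * I := fun h => by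
      have := congrFun (congrFun ((congrArg Units.val h).trans hI2) 0) 0
      simp at this
      exact h2 (by linear_combination this)
    have hsub : (({1, I, I * I} : Finset (GL (Fin 2) F)) : Set (GL (Fin 2) F)) ⊆
        (S ⊓ detK (Fin 2) F : Subgroup (GL (Fin 2) F)) := by
      intro g hg
      simp at hg
      rcases hg with rfl | rfl | rfl
      · exact one_mem _
      · exact ⟨hIS, hIK⟩
      · exact mul_mem (show I ∈ _ ⊓ detK (Fin 2) F from ⟨hIS, hIK⟩) ⟨hIS, hIK⟩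
    have h := Set.ncard_le_ncard hsub (Set.toFinite _)
    rw [Set.ncard_coe_finset, ← Nat.card_coe_set_eq] at h
    refine le_trans (le_of_eq ?_) h
    refine (Finset.card_eq_three.2 ⟨1, I, I * I, ?_, hne, ?_, rfl⟩).symm
    · intro h; exact hne (by rw [← h, one_mul])
    · intro h; exact hne (by rw [left_eq_mul.1 h, one_mul])
  · refine scalar_of_normalizes_two h2 _ hpS hIS hJS hIJ ?_
    set π := QuotientGroup.mk' (Subgroup.center (GL (Fin 2) F))
    let f : S →* GL (Fin 2) F ⧸ Subgroup.center (GL (Fin 2) F) := π.comp S.subtype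
    have hrange : S.map π = f.range := by rw [MonoidHom.range_comp, Subgroup.range_subtype]
    -- the kernel embeds in the norm one elements
    have hscal : ∀ g : f.ker, ∃ c : F, (g.1.1 : Matrix (Fin 2) (Fin 2) F) = c • 1 := fun g =>
      mem_center_iff_scalar.1 ((QuotientGroup.eq_one_iff _).1 g.2)
    let δ0 : f.ker →* F :=
      { toFun := fun g => (g.1.1 : Matrix (Fin 2) (Fin 2) F) 0 0
        map_one' := by
          show ((1 : GL (Fin 2) F) : Matrix (Fin 2) (Fin 2) F) 0 0 = 1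
          rw [Units.val_one, Matrix.one_apply_eq]
        map_mul' := fun g h => by
          obtain ⟨c, hc⟩ := hscal g
          show ((g.1.1 * h.1.1 : GL (Fin 2) F) : Matrix (Fin 2) (Fin 2) F) 0 0 = _
          rw [Units.val_mul, hc, smul_mul_assoc, one_mul, Matrix.smul_apply, Matrix.smul_apply,
            Matrix.one_apply_eq, smul_eq_mul, smul_eq_mul, mul_one] }
    have hinj : Function.Injective δ0.toHomUnits := fun g h hgh => by
      obtain ⟨c, hc⟩ := hscal g
      obtain ⟨d, hd⟩ := hscal h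
      have h0 : (g.1.1 : Matrix (Fin 2) (Fin 2) F) 0 0 = (h.1.1 : Matrix (Fin 2) (Fin 2) F) 0 0 :=
        congrArg Units.val hgh
      rw [hc, hd] at h0
      simp at h0
      exact Subtype.ext (Subtype.ext (Units.ext (by rw [hc, hd, h0])))
    have hnorm : δ0.toHomUnits.range ≤ (powMonoidHom (q + 1) : Fˣ →* Fˣ).ker := by
      rintro u ⟨g, rfl⟩
      obtain ⟨c, hc⟩ := hscal g
      have hg : g.1.1 ∈ guI (Fin 2) τ := hSle g.1.2
      rw [mem_guI, hc] at hg
      have h00 := congrFun (congrFun hg 0) 0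
      simp [Matrix.mul_apply, Fin.sum_univ_two, τ] at h00
      refine MonoidHom.mem_ker.2 (Units.ext ?_)
      show ((g.1.1 : Matrix (Fin 2) (Fin 2) F) 0 0) ^ (q + 1) = 1
      rw [hc, Matrix.smul_apply, Matrix.one_apply_eq, smul_eq_mul, mul_one, pow_succ]
      exact h00
    have hker : Nat.card f.ker ∣ q + 1 := by
      rw [Nat.card_congr (MonoidHom.ofInjective hinj).toEquiv]
      refine (Subgroup.card_dvd_of_le hnorm).trans ?_
      rw [IsCyclic.card_powMonoidHom_ker]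
      exact Nat.gcd_dvd_right _ _
    obtain ⟨e, he⟩ := IsPGroup.iff_card.1 (hpS.to_subgroup f.ker)
    have hev : e ≤ v2 (q + 1) := (pow_dvd_iff_le_v2 (by omega)).1 (he ▸ hker)
    have hmul : Nat.card f.range * Nat.card f.ker = Nat.card S := by
      rw [← Nat.card_congr (QuotientGroup.quotientKerEquivRange f).toEquiv,
        ← Subgroup.card_eq_card_quotient_mul_card_subgroup]
    rw [he, hcardS, v2_card_guI hF hq, Fintype.card_fin] at hmul
    have hg3 := guExp_two hq hq2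
    rw [hrange]
    by_contra hle
    push Not at hle
    have : 2 ^ guExp q 2 ≤ 4 * 2 ^ v2 (q + 1) := by
      rw [← hmul]; exact Nat.mul_le_mul hle (Nat.pow_le_pow_right (by norm_num) hev)
    rw [show (4 : ℕ) = 2 ^ 2 from rfl, ← pow_add, Nat.pow_le_pow_iff_right (by norm_num)] at this
    omega

/-! ### The step -/

theorem det_swapBlock {ι : Type} [Fintype ι] [DecidableEq ι] (he : Even (Fintype.card ι)) :
    ((swapBlock : GL (ι ⊕ ι) F) : Matrix (ι ⊕ ι) (ι ⊕ ι) F).det = 1 := by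
  have hfac : fromBlocks (0 : Matrix ι ι F) 1 1 0 = fromBlocks (-1 : Matrix ι ι F) 0 0 (1 : Matrix ι ι F) *
      (fromBlocks (1 : Matrix ι ι F) (-1) 0 (1 : Matrix ι ι F) * fromBlocks (1 : Matrix ι ι F) 0 1 (1 : Matrix ι ι F) *
        fromBlocks (1 : Matrix ι ι F) (-1) 0 (1 : Matrix ι ι F)) := by
    simp [fromBlocks_multiply]
  rw [swapBlock_val, hfac, det_mul, det_mul, det_mul, det_fromBlocks_zero₂₁, det_fromBlocks_zero₂₁,
    det_fromBlocks_zero₁₂, det_neg, det_one]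
  simp [he.neg_one_pow]

theorem exists_good_step' (hF : Fintype.card F = q ^ 2) (hq : Odd q) {ι : Type} [Fintype ι] [DecidableEq ι]
    {k : ℕ} (hk : 1 ≤ k) (hι : Fintype.card ι = 2 ^ k) {S : Subgroup (GL ι F)} (hS : GoodU (hermConj hF) S) :
    GoodU (hermConj hF) (wreathTwo S) ∧ ScalarNormalizer (wreathTwo S ⊓ detK (ι ⊕ ι) F) := by
  have hne : Nonempty ι := Fintype.card_pos_iff.1 (by rw [hι]; positivity)
  have hoddF : Odd (Fintype.card F) := by rw [hF]; exact hq.pow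
  have h2 := two_ne_zero_of_odd_card hoddF
  obtain ⟨hle, hcardS, hirr, hc3, hSN⟩ := hS
  set τ := hermConj hF
  have hblock : ∀ y : GL ι F × GL ι F, y.1 ∈ guI ι τ → y.2 ∈ guI ι τ → blockHom y ∈ guI (ι ⊕ ι) τ := by
    intro y (h1 : _ = _) (h2 : _ = _)
    rw [mem_guI, blockHom_val, fromBlocks_map, fromBlocks_transpose, fromBlocks_multiply]
    simp [h1, h2]
  have hsw : (swapBlock : GL (ι ⊕ ι) F) ∈ guI (ι ⊕ ι) τ := by
    rw [mem_guI, swapBlock_val, fromBlocks_map, fromBlocks_transpose, fromBlocks_multiply]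
    simp
  set T := wreathTwo S
  have hTle : T ≤ guI (ι ⊕ ι) τ := by
    rintro g ⟨y, h1, h2, rfl | rfl⟩
    · exact hblock y (hle h1) (hle h2)
    · exact mul_mem (hblock y (hle h1) (hle h2)) hsw
  have hcard : Nat.card T = 2 ^ v2 (Nat.card (guI (ι ⊕ ι) τ)) := by
    rw [card_wreathTwo, hcardS, v2_card_guI hF hq, v2_card_guI hF hq, Fintype.card_sum, hι, ← two_mul (2 ^ k),
      guExp_double hq (herm_two_le hF) hk, ← pow_add, ← pow_succ']
    congr 1
    omega
  set B := S ⊓ detK ι F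
  have hT : IsPGroup 2 T := IsPGroup.of_card hcard
  have hBK : ∀ b ∈ B, Matrix.GeneralLinearGroup.det b = 1 := fun b hb => MonoidHom.mem_ker.1 hb.2
  have hl : ∀ b ∈ B, blockHom (b, 1) ∈ T ⊓ detK (ι ⊕ ι) F := fun b hb =>
    ⟨⟨(b, 1), hb.1, one_mem _, Or.inl rfl⟩, MonoidHom.mem_ker.2 (by rw [det_blockHom, hBK b hb, map_one, mul_one])⟩
  have hr : ∀ b ∈ B, blockHom (1, b) ∈ T ⊓ detK (ι ⊕ ι) F := fun b hb =>
    ⟨⟨(1, b), one_mem _, hb.1, Or.inl rfl⟩, MonoidHom.mem_ker.2 (by rw [det_blockHom, hBK b hb, map_one, mul_one])⟩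
  have hproj : ∀ s ∈ S, ∃ t, blockHom (s, t) ∈ T ⊓ detK (ι ⊕ ι) F := fun s hs =>
    ⟨s⁻¹, ⟨(s, s⁻¹), hs, inv_mem hs, Or.inl rfl⟩,
      MonoidHom.mem_ker.2 (by rw [det_blockHom, ← map_mul, mul_inv_cancel, map_one])⟩
  have hswap : ∃ y : GL ι F × GL ι F, blockHom y * swapBlock ∈ T ⊓ detK (ι ⊕ ι) F :=
    ⟨1, ⟨1, one_mem _, one_mem _, Or.inr rfl⟩, MonoidHom.mem_ker.2 (by
      rw [map_one, one_mul]
      exact Units.ext (det_swapBlock (by rw [hι]; exact (Nat.even_pow' (by omega)).2 even_two)))⟩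
  have hc0 : 3 ≤ Nat.card (T ⊓ detK (ι ⊕ ι) F : Subgroup (GL (ι ⊕ ι) F)) := by
    refine hc3.trans (Nat.card_le_card_of_injective
      (fun b : B => (⟨blockHom (b.1, 1), hl b.1 b.2⟩ : (T ⊓ detK (ι ⊕ ι) F : Subgroup (GL (ι ⊕ ι) F)))) ?_)
    intro b c h
    have := blockHom_injective (congrArg Subtype.val h)
    exact Subtype.ext (congrArg Prod.fst this)
  have hSN0 : ScalarNormalizer (T ⊓ detK (ι ⊕ ι) F) :=
    scalarNormalizer_block (B := B) (S := S) h2 hirr hc3 hl hr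
      (fun g hg => hg.1) hproj hswap (hT.to_le inf_le_left) hSN
  obtain ⟨y, hy⟩ := hswap
  refine ⟨⟨hTle, hcard, irr_block hirr (ne_bot_of_card hc3) hl ⟨y.1, y.2, hy⟩, hc0,
    fun x hodd hx => hSN0 x hodd ?_⟩, hSN0⟩
  refine mem_normalizer_of_conj fun g hg => ⟨(Subgroup.mem_normalizer_iff.1 hx g).1 hg.1, ?_⟩
  exact MonoidHom.mem_ker.2 (by rw [map_mul, map_mul, MonoidHom.mem_ker.1 hg.2, mul_one, ← map_mul, mul_inv_cancel, map_one])

theorem exists_good' (hF : Fintype.card F = q ^ 2) (hq : Odd q) {k : ℕ} (hk : 1 ≤ k) :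
    ∃ (ι : Type) (_ : Fintype ι) (_ : DecidableEq ι), Fintype.card ι = 2 ^ k ∧
      ∃ S : Subgroup (GL ι F), GoodU (hermConj hF) S ∧ (2 ≤ k → ScalarNormalizer (S ⊓ detK ι F)) := by
  induction k, hk using Nat.le_induction with
  | base =>
    obtain ⟨S, hS⟩ := exists_good_two' hF hq
    exact ⟨Fin 2, inferInstance, inferInstance, by simp, S, hS, fun h => absurd h (by omega)⟩
  | succ k hk ih =>
    obtain ⟨ι, hFι, hDι, hι, S, hS, -⟩ := ih
    obtain ⟨hT, hT'⟩ := exists_good_step' hF hq hk hι hS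
    exact ⟨ι ⊕ ι, inferInstance, inferInstance, by rw [Fintype.card_sum, hι, pow_succ, mul_two], _, hT, fun _ => hT'⟩

/-- Any Sylow 2-subgroup of `GU_{2^k}(q)`, met with the kernel of the determinant, is normalised only by scalars
among the elements of odd order. -/
theorem scalarNormalizer_sylow_su (hF : Fintype.card F = q ^ 2) (hq : Odd q) {n k : ℕ} (hk : 2 ≤ k) (hn : n = 2 ^ k)
    (P : Sylow 2 (Cfsg.GU n F q)) :
    ScalarNormalizer ((P : Subgroup (Cfsg.GU n F q)).map (Cfsg.GU n F q).subtype ⊓ detK (Fin n) F) := by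
  obtain ⟨ι, hFι, hDι, hι, R, ⟨hle, hcard, -⟩, hR⟩ := exists_good' hF hq (show 1 ≤ k by omega)
  let e : ι ≃ Fin n := Fintype.equivFinOfCardEq (hι.trans hn.symm)
  let φ := glReindex (F := F) e
  set R' := R.map φ.toMonoidHom
  have hG : (guI ι (hermConj hF)).map φ.toMonoidHom = Cfsg.GU n F q := by rw [map_glReindex_guI, guI_fin hF]
  have hR'le : R' ≤ Cfsg.GU n F q := hG ▸ Subgroup.map_mono hle
  have hc : Nat.card (R'.subgroupOf (Cfsg.GU n F q)) = 2 ^ (Nat.card (Cfsg.GU n F q)).factorization 2 := by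
    rw [Nat.card_congr (Subgroup.subgroupOfEquivOfLe hR'le).toEquiv,
      ← Nat.card_congr (R.equivMapOfInjective φ.toMonoidHom φ.injective).toEquiv, hcard, ← hG,
      ← Nat.card_congr ((guI ι (hermConj hF)).equivMapOfInjective φ.toMonoidHom φ.injective).toEquiv]
  obtain ⟨g, hg⟩ := MulAction.exists_smul_eq (Cfsg.GU n F q) (Sylow.ofCard _ hc) P
  have hdet : ∀ x, Matrix.GeneralLinearGroup.det (φ x) = Matrix.GeneralLinearGroup.det x := fun x =>
    Units.ext (Matrix.det_reindex_self e _)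
  have h1 : ScalarNormalizer ((R ⊓ detK ι F).map φ.toMonoidHom) :=
    scalarNormalizer_map φ (fun x ⟨c, hc⟩ => ⟨c, by
      show Matrix.reindexAlgEquiv F F e (x : Matrix ι ι F) = c • 1
      rw [hc, map_smul, map_one]⟩) (hR hk)
  have h2 := scalarNormalizer_map (MulAut.conj (g : GL (Fin n) F)) (fun x ⟨c, hc⟩ => ⟨c, by
    show ((((g : GL (Fin n) F) * x * (g : GL (Fin n) F)⁻¹ : GL (Fin n) F)) : Matrix (Fin n) (Fin n) F) = _
    rw [Units.val_mul, Units.val_mul, hc, mul_smul_comm, mul_one, smul_mul_assoc, ← Units.val_mul,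
      mul_inv_cancel, Units.val_one]⟩) h1
  convert h2 using 1
  rw [← hg, Sylow.coe_subgroup_smul, Sylow.coe_ofCard, Subgroup.map_inf _ _ φ.toMonoidHom φ.injective,
    Subgroup.map_inf _ _ (MulAut.conj (g : GL (Fin n) F)).toMonoidHom (MulAut.conj (g : GL (Fin n) F)).injective]
  have hK : (detK ι F).map φ.toMonoidHom = detK (Fin n) F := by
    ext y
    obtain ⟨x, rfl⟩ := φ.surjective y
    rw [show φ x = φ.toMonoidHom x from rfl, Subgroup.mem_map_iff_mem (f := φ.toMonoidHom) φ.injective]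
    show _ ↔ Matrix.GeneralLinearGroup.det (φ x) = 1
    rw [hdet]; rfl
  have hK2 : (detK (Fin n) F).map (MulAut.conj (g : GL (Fin n) F)).toMonoidHom = detK (Fin n) F := map_conj_normal _
  rw [hK, hK2]
  congr 1
  ext y
  constructor
  · intro hy
    obtain ⟨z, hz, rfl⟩ := Subgroup.mem_map.1 hy
    obtain ⟨w, hw, rfl⟩ := Subgroup.mem_map.1 hz
    refine Subgroup.mem_map.2 ⟨w.1, Subgroup.mem_subgroupOf.1 hw, ?_⟩
    simp
  · intro hy
    obtain ⟨z, hz, rfl⟩ := Subgroup.mem_map.1 hy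
    refine Subgroup.mem_map.2 ⟨g * ⟨z, hR'le hz⟩ * g⁻¹, Subgroup.mem_map.2 ⟨⟨z, hR'le hz⟩, Subgroup.mem_subgroupOf.2 hz, ?_⟩, ?_⟩
    · simp
    · simp

/-- Sylow 2-subgroups of `PSU_{2^k}(q)`, `q` odd, `k ≥ 2`, are self-normalising. -/
theorem psu_normalizer_le (hF : Fintype.card F = q ^ 2) (hq : Odd q) {n k : ℕ} (hk : 2 ≤ k) (hn : n = 2 ^ k)
    (P : Sylow 2 (Cfsg.PSU n F q)) :
    Subgroup.normalizer ((P : Subgroup (Cfsg.PSU n F q)) : Set (Cfsg.PSU n F q)) ≤ P := by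
  classical
  set SUn := Cfsg.SU n F q
  have hi0 : Nonempty (Fin n) := ⟨⟨0, by rw [hn]; positivity⟩⟩
  have hzpow : ∀ z : Subgroup.center SUn, z ^ 2 ^ k = 1 := by
    intro z
    obtain ⟨i⟩ := hi0
    obtain ⟨c, hc⟩ : ∃ c : F, z.1.1.1 = c • 1 := ⟨z.1.1.1 i i, Matrix.ext fun a b => by
      have h := center_SU_scalar hF z
      by_cases hab : a = b
      · subst hab; simpa using (h a i).2
      · rw [(h a b).1 hab]; simp [Matrix.one_apply_ne hab]⟩
    have hd := z.1.1.2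
    rw [hc, det_smul, det_one, mul_one, Fintype.card_fin, hn] at hd
    refine Subtype.ext (Subtype.ext (Subtype.ext ?_))
    show ((z.1.1 ^ 2 ^ k : Matrix.SpecialLinearGroup (Fin n) F) : Matrix (Fin n) (Fin n) F) = 1
    rw [Matrix.SpecialLinearGroup.coe_pow, hc, _root_.smul_pow, one_pow, hd, one_smul]
  let π : SUn →* Cfsg.PSU n F q := QuotientGroup.mk' _
  have hker : IsPGroup 2 π.ker := by
    rw [QuotientGroup.ker_mk']
    exact fun z => ⟨k, hzpow z⟩
  let Q : Subgroup SUn := (P : Subgroup _).comap π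
  have hQ2 : IsPGroup 2 Q := P.isPGroup'.comap_of_ker_isPGroup π hker
  let j : SUn →* Cfsg.GU n F q :=
    (Matrix.SpecialLinearGroup.toGL.comp SUn.subtype).codRestrict _ fun x => mem_SU_iff_toGL.1 x.2
  have hj : Function.Injective j := fun a b h => by
    apply Subtype.ext
    apply Subtype.ext
    exact congrArg (fun z : Cfsg.GU n F q => (z : GL (Fin n) F).val) h
  obtain ⟨S, hS⟩ := (hQ2.map j).exists_le_sylow
  have hSN := scalarNormalizer_sylow_su hF hq hk hn S
  have hinf : (S : Subgroup (Cfsg.GU n F q)).map (Cfsg.GU n F q).subtype ⊓ detK (Fin n) F =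
      Q.map ((Cfsg.GU n F q).subtype.comp j) := by
    refine le_antisymm ?_ ?_
    · rintro g ⟨⟨w, hw, rfl⟩, hdet⟩
      have hd : (w.1 : Matrix (Fin n) (Fin n) F).det = 1 := congrArg Units.val (MonoidHom.mem_ker.1 hdet)
      let x : SUn := ⟨⟨w.1.1, hd⟩, mem_SU_iff.2 (mem_GU_iff.1 w.2)⟩
      have hjx : j x = w := Subtype.ext (Units.ext rfl)
      refine ⟨x, ?_, congrArg Subtype.val hjx⟩
      -- `Q` is the whole inverse image of `S`
      have hQ' : IsPGroup 2 ((S : Subgroup (Cfsg.GU n F q)).comap j) := S.isPGroup'.comap_of_injective _ hj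
      have h1 : (P : Subgroup _) ≤ ((S : Subgroup (Cfsg.GU n F q)).comap j).map π := fun y hy => by
        obtain ⟨a, rfl⟩ := QuotientGroup.mk'_surjective (Subgroup.center SUn) y
        exact ⟨a, hS ⟨a, hy, rfl⟩, rfl⟩
      show π x ∈ (P : Subgroup _)
      rw [← P.is_maximal' (hQ'.map π) h1]
      exact ⟨x, show j x ∈ (S : Subgroup _) by rw [hjx]; exact hw, rfl⟩
    · rintro g ⟨a, ha, rfl⟩
      exact ⟨⟨j a, hS ⟨a, ha, rfl⟩, rfl⟩, MonoidHom.mem_ker.2 (Units.ext a.1.2)⟩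
  rw [hinf] at hSN
  have hjc : Function.Injective ((Cfsg.GU n F q).subtype.comp j) := (Subgroup.subtype_injective _).comp hj
  have hQn : Subgroup.normalizer (Q : Set SUn) ≤ Q := by
    let QS : Sylow 2 SUn :=
      { toSubgroup := Q
        isPGroup' := hQ2
        is_maximal' := fun {R} hR hle => le_antisymm (fun x hx => by
          show π x ∈ (P : Subgroup _)
          rw [← P.is_maximal' (hR.map π) (fun y hy => by
            obtain ⟨a, rfl⟩ := QuotientGroup.mk'_surjective (Subgroup.center SUn) y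
            exact ⟨a, hle hy, rfl⟩)]
          exact ⟨x, hx, rfl⟩) hle }
    refine normalizer_le_of_odd QS fun x hx hodd => ?_
    have hx' : ((Cfsg.GU n F q).subtype.comp j) x ∈ Subgroup.normalizer
        ((Q.map ((Cfsg.GU n F q).subtype.comp j)) : Set (GL (Fin n) F)) :=
      CfsgLib.PronormalPSL.mem_normalizer_of_conj fun g hg => by
        obtain ⟨a, ha, rfl⟩ := hg
        rw [← map_inv, ← map_mul, ← map_mul]
        exact Subgroup.mem_map_of_mem _ ((Subgroup.mem_normalizer_iff.1 hx a).1 ha)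
    obtain ⟨c, hc⟩ := hSN _ (by rwa [orderOf_injective _ hjc]) hx'
    have hcx : x ∈ Subgroup.center SUn := Subgroup.mem_center_iff.2 fun g => hjc (Units.ext (by
      rw [map_mul, map_mul, Units.val_mul, Units.val_mul, hc]; simp))
    exact eq_one_of_odd_two hodd (pow_orderOf_eq_one x) (congrArg Subtype.val (hzpow ⟨x, hcx⟩))
  intro y hy
  obtain ⟨x, rfl⟩ := QuotientGroup.mk'_surjective (Subgroup.center SUn) y
  refine hQn ?_
  refine CfsgLib.PronormalPSL.mem_normalizer_of_conj fun a ha => ?_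
  show π (x * a * x⁻¹) ∈ (P : Subgroup _)
  rw [map_mul, map_mul, map_inv]
  exact (Subgroup.mem_normalizer_iff.1 hy _).1 ha

end CfsgLib.PronormalPSU
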